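import Mathlib.GroupTheory.SpecificGroups.Alternating

/-!
A subgroup of the symmetric group on eight letters containing six three-cycles.
-/

set_option autoImplicit false

namespace Cfsg.Agent.LeechCount.McLInv

open Equiv

/-- The transposition of the first two letters. -/
def s01 : Perm (Fin 8) := swap 0 1

/-- A three-cycle through the first two letters. -/
def c01 (k : Fin 8) : Perm (Fin 8) := swap 0 k * s01

/-- The six three-cycles. -/
def cycSet : Set (Perm (Fin 8)) := {x | ∃ k : Fin 8, 2 ≤ k ∧ x = c01 k}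

theorem conj_s01 : ∀ k : Fin 8, 2 ≤ k → ∀ x : Fin 8,
    (s01 * c01 k * s01) x = (c01 k)⁻¹ x := by
  decide +kernel

theorem cycle_sq : ∀ k : Fin 8, 2 ≤ k → ∀ x : Fin 8, (c01 k * c01 k * c01 k) x = x := by
  decide +kernel

/-- The closure has index at most two. -/
theorem card_cycles : 20160 ≤ Nat.card ↥(Subgroup.closure cycSet) := by
  set K := Subgroup.closure cycSet with hK
  have hs : s01 * s01 = 1 := Equiv.swap_mul_self 0 1
  have hsi : s01⁻¹ = s01 := Equiv.swap_inv 0 1
  have hnorm : ∀ x ∈ K, s01 * x * s01 ∈ K := by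
    intro x hx
    induction hx using Subgroup.closure_induction with
    | mem x hx =>
      obtain ⟨k, hk, rfl⟩ := hx
      rw [show s01 * c01 k * s01 = (c01 k)⁻¹ from Equiv.ext (conj_s01 k hk)]
      exact K.inv_mem (Subgroup.subset_closure ⟨k, hk, rfl⟩)
    | one => rw [mul_one, hs]; exact K.one_mem
    | mul x y _ _ hx hy =>
      rw [show s01 * (x * y) * s01 = (s01 * x * s01) * (s01 * y * s01) by
        simp only [mul_assoc]; rw [← mul_assoc s01 s01, hs, one_mul]]
      exact K.mul_mem hx hy
    | inv x _ hx =>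
      rw [show s01 * x⁻¹ * s01 = (s01 * x * s01)⁻¹ by rw [mul_inv_rev, mul_inv_rev, hsi, mul_assoc]]
      exact K.inv_mem hx
  let M : Subgroup (Perm (Fin 8)) :=
    { carrier := {σ | σ ∈ K ∨ σ * s01 ∈ K}
      one_mem' := Or.inl K.one_mem
      mul_mem' := by
        rintro a b (ha | ha) (hb | hb)
        · exact Or.inl (K.mul_mem ha hb)
        · exact Or.inr (by rw [mul_assoc]; exact K.mul_mem ha hb)
        · refine Or.inr ?_
          have := K.mul_mem ha (hnorm b hb)
          rwa [show a * s01 * (s01 * b * s01) = a * b * s01 by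
            simp only [mul_assoc]; rw [← mul_assoc s01 s01, hs, one_mul]] at this
        · refine Or.inl ?_
          have := K.mul_mem ha (hnorm (b * s01) hb)
          rwa [show a * s01 * (s01 * (b * s01) * s01) = a * b by
            simp only [mul_assoc]; rw [hs, mul_one, ← mul_assoc s01 s01, hs, one_mul]] at this
      inv_mem' := by
        rintro a (ha | ha)
        · exact Or.inl (K.inv_mem ha)
        · refine Or.inr ?_
          have := hnorm _ (K.inv_mem ha)
          rwa [mul_inv_rev, hsi, ← mul_assoc, hs, one_mul] at this }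
  have h0 : ∀ k : Fin 8, swap 0 k ∈ M := by
    intro k
    by_cases h2 : 2 ≤ k
    · exact Or.inr (Subgroup.subset_closure ⟨k, h2, rfl⟩)
    · have : k = 0 ∨ k = 1 := by omega
      rcases this with rfl | rfl
      · rw [Equiv.swap_self]; exact M.one_mem
      · exact Or.inr (by show s01 * s01 ∈ K; rw [hs]; exact K.one_mem)
  have hM : M = ⊤ := by
    rw [eq_top_iff, ← Equiv.Perm.closure_isSwap, Subgroup.closure_le]
    rintro _ ⟨x, y, hxy, rfl⟩
    by_cases hy : y = 0
    · subst hy; rw [Equiv.swap_comm]; exact h0 x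
    by_cases hx : x = 0
    · subst hx; exact h0 y
    have e := Equiv.swap_mul_swap_mul_swap (x := y) (y := (0 : Fin 8)) (z := x) hy (Ne.symm hxy)
    show swap x y ∈ M
    rw [← e]
    exact M.mul_mem (M.mul_mem (h0 x) (by rw [Equiv.swap_comm]; exact h0 y)) (h0 x)
  classical
  let f : ↥K × Bool → Perm (Fin 8) := fun q => if q.2 then (q.1 : Perm (Fin 8)) else (q.1 : Perm (Fin 8)) * s01
  have hf : Function.Surjective f := fun σ => by
    have hσ : σ ∈ M := by rw [hM]; exact Subgroup.mem_top σ
    rcases hσ with h | h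
    · exact ⟨(⟨σ, h⟩, true), rfl⟩
    · exact ⟨(⟨σ * s01, h⟩, false), by simp [f, mul_assoc, hs]⟩
  have hc := Nat.card_le_card_of_surjective f hf
  rw [Nat.card_prod, Nat.card_perm, Nat.card_eq_fintype_card (α := Bool), Fintype.card_bool, Nat.card_fin,
    show Nat.factorial 8 = 40320 from rfl] at hc
  omega

end Cfsg.Agent.LeechCount.McLInv
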