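import Cfsg.Agent.Lib.LeechCount.McLInv.Class
import Cfsg.Agent.Lib.LeechCount.McLInv.Alt

/-!
The centraliser of an involution in the pair stabiliser, acting on 56 families of five vectors
labelled by triples from eight letters.
-/

set_option autoImplicit false

namespace Cfsg.Agent.LeechCount.McLInv

open Cfsg Cfsg.Agent.Leech Cfsg.Agent.Golay24 Cfsg.Agent.LeechCount.Co3Rank
open Cfsg.Agent.LeechCount.Co3Out MulAction

noncomputable section

attribute [local irreducible] normFS dotFS

/-- The involution in the vector stabiliser. -/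
def tG : ↥G3 := iota22 t22

theorem tblT_ok : permTblB t0 tblT = true := by decide +kernel

theorem acts_t : Acts tG (lk tblT) := acts_gen t0_ok tblT_ok

/-- The four letters. -/
def lEl : Fin 4 → ↥G3 := ![hA, hB, hC, wEl zW1]

/-- Their tables. -/
def lTb : Fin 4 → ℕ := ![tblA, tblB, tblC, tblZ]

theorem acts_letter : ∀ k, Acts (lEl k) (lk (lTb k)) := by
  intro k
  fin_cases k
  exacts [acts_hA, acts_hB, acts_hC, acts_zW1]

theorem letter_mem : ∀ k, lEl k ∈ SM := by
  intro k
  fin_cases k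
  exacts [iota22_mem_SM _, iota22_mem_SM _, iota22_mem_SM _, zW1_mem_SM]

/-- The element of a word. -/
def wordEl (w : List (Fin 4)) : ↥G3 := (w.map lEl).prod

/-- The action of a word. -/
def wordFn (w : List (Fin 4)) (i : ℕ) : ℕ := w.foldr (fun k t => lk (lTb k) t) i

theorem acts_word : ∀ w, Acts (wordEl w) (wordFn w)
  | [] => Acts.one
  | k :: w => (acts_letter k).mul (acts_word w)

theorem word_mem : ∀ w, wordEl w ∈ SM
  | [] => SM.one_mem
  | k :: w => SM.mul_mem (letter_mem k) (word_mem w)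

theorem acts_inj {g h : ↥G3} {f : ℕ → ℕ} (hg : Acts g f) (hh : Acts h f) : g = h := by
  have : g⁻¹ * h = 1 := Acts.eq_one (f := id) (fun i hi => ⟨hi, by
    rw [Subgroup.coe_mul, ap_mul _ _ (ptV_mem hi), (hh i hi).2, ← (hg i hi).2, Subgroup.coe_inv,
      ap_inv_ap _ (ptV_mem hi)]
    rfl⟩) fun _ _ => rfl
  exact inv_mul_eq_one.1 this

/-- The indices of a family. -/
def spI (j : Fin 56) : Finset ℕ := (sprL.getD j.val []).toFinset

/-- The triple of a family. -/
def tri (j : Fin 56) : Finset (Fin 8) := (triL.getD j.val []).toFinset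

/-- The vectors of a family. -/
def sv (j : Fin 56) : Finset Vec := (spI j).image ptV

theorem spI_lt : ∀ j, ∀ i ∈ spI j, i < 552 := by decide +kernel

theorem spI_inj : ∀ j k, spI j = spI k → j = k := by decide +kernel

theorem tri_sep : ∀ p q : Fin 8, (∀ j, p ∈ tri j → q ∈ tri j) → q = p := by decide +kernel

theorem codes_nodup : ((List.range 552).map fun i => getSlot 96 co3Tab i).Nodup := by
  have h : co3Srt.length = 552 ∧ sortedB (co3Srt.map (getSlot 96 co3Tab)) = true ∧
      ∀ k ∈ co3Srt, k < 552 := by decide +kernel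
  obtain ⟨hlen, hs, hlt⟩ := h
  have hnd : (co3Srt.map (getSlot 96 co3Tab)).Nodup := (sortedB_pairwise hs).imp fun h => Nat.ne_of_lt h
  have hp : co3Srt.Perm (List.range 552) :=
    (List.subperm_of_subset hnd.of_map fun x hx => List.mem_range.2 (hlt x hx)).perm_of_length_le (by simp [hlen])
  exact (hp.map _).nodup_iff.1 hnd

theorem ptV_inj {i k : ℕ} (hi : i < 552) (hk : k < 552) (h : ptV i = ptV k) : i = k :=
  List.inj_on_of_nodup_map codes_nodup (List.mem_range.2 hi) (List.mem_range.2 hk)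
    (vecN_injOn (codes_norm _ hi) (codes_norm _ hk) h)

theorem sv_inj {j k : Fin 56} (h : sv j = sv k) : j = k := by
  refine spI_inj j k (Finset.ext fun i => ?_)
  constructor <;> intro hi
  · obtain ⟨m, hm, e⟩ := Finset.mem_image.1 (h ▸ Finset.mem_image_of_mem ptV hi : ptV i ∈ sv k)
    rwa [← ptV_inj (spI_lt k m hm) (spI_lt j i hi) e]
  · obtain ⟨m, hm, e⟩ := Finset.mem_image.1 (h.symm ▸ Finset.mem_image_of_mem ptV hi : ptV i ∈ sv j)
    rwa [← ptV_inj (spI_lt j m hm) (spI_lt k i hi) e]

theorem sv_mem {j : Fin 56} {x : Vec} (hx : x ∈ sv j) : x ∈ leechLattice := by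
  obtain ⟨i, hi, rfl⟩ := Finset.mem_image.1 hx
  exact ptV_mem (spI_lt j i hi)

/-- The element permutes the families as the permutation permutes the triples. -/
def Sends (g : ↥G3) (π : Equiv.Perm (Fin 8)) : Prop :=
  ∀ j, ∃ k, tri k = (tri j).image π ∧ (sv j).image (ap (g : ↥Co0)) = sv k

theorem Sends.one : Sends 1 1 := fun j => ⟨j, by simp, by
  rw [show ((1 : ↥G3) : ↥Co0) = 1 from rfl]
  exact (Finset.image_congr fun x _ => ap_one x).trans Finset.image_id⟩

theorem Sends.mul {g h : ↥G3} {π ρ : Equiv.Perm (Fin 8)} (hg : Sends g π) (hh : Sends h ρ) :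
    Sends (g * h) (π * ρ) := fun j => by
  obtain ⟨k, k1, k2⟩ := hh j
  obtain ⟨l, l1, l2⟩ := hg k
  refine ⟨l, ?_, ?_⟩
  · rw [l1, k1, Finset.image_image]; rfl
  · rw [← l2, ← k2, Finset.image_image, Subgroup.coe_mul]
    exact Finset.image_congr fun x hx => ap_mul _ _ (sv_mem hx)

theorem Sends.inv {g : ↥G3} {π : Equiv.Perm (Fin 8)} (hg : Sends g π) : Sends g⁻¹ π⁻¹ := by
  choose f hf1 hf2 using hg
  have hinj : Function.Injective f := fun a b e => sv_inj (by
    have h2 : (sv a).image (ap (g : ↥Co0)) = (sv b).image (ap (g : ↥Co0)) := by rw [hf2, hf2, e]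
    have back : ∀ c, ((sv c).image (ap (g : ↥Co0))).image (ap ((g : ↥Co0)⁻¹)) = sv c := fun c => by
      rw [Finset.image_image]
      exact (Finset.image_congr fun x hx => ap_inv_ap _ (sv_mem hx)).trans Finset.image_id
    rw [← back a, h2, back])
  intro j
  obtain ⟨i, rfl⟩ := Finite.injective_iff_surjective.1 hinj j
  refine ⟨i, ?_, ?_⟩
  · rw [hf1, Finset.image_image]
    exact ((Finset.image_congr fun x _ => by simp).trans Finset.image_id).symm
  · rw [← hf2, Finset.image_image, Subgroup.coe_inv]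
    exact (Finset.image_congr fun x hx => ap_inv_ap _ (sv_mem hx)).trans Finset.image_id

theorem Sends.unique {g : ↥G3} {π ρ : Equiv.Perm (Fin 8)} (h : Sends g π) (h' : Sends g ρ) : π = ρ := by
  refine Equiv.ext fun p => ?_
  have hq : π⁻¹ (ρ p) = p := tri_sep p _ fun j hj => by
    obtain ⟨k, k1, k2⟩ := h j
    obtain ⟨l, l1, l2⟩ := h' j
    obtain rfl : k = l := sv_inj (k2.symm.trans l2)
    have hmem : ρ p ∈ (tri j).image π := by rw [← k1, l1]; exact Finset.mem_image_of_mem _ hj
    obtain ⟨x, hx, e⟩ := Finset.mem_image.1 hmem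
    rw [← e]; simpa using hx
  have := congrArg π hq
  rw [← Equiv.Perm.mul_apply, mul_inv_cancel, Equiv.Perm.one_apply] at this
  exact this.symm

/-- A permutation from its values. -/
def pmOf (l : List (Fin 8)) (h : Function.Bijective fun x : Fin 8 => l.getD x.val 0) : Equiv.Perm (Fin 8) :=
  Equiv.ofBijective _ h

theorem gP1_bij : Function.Bijective fun x : Fin 8 => gP1.getD x.val 0 :=
  Finite.injective_iff_bijective.1 (by decide +kernel)

theorem gP2_bij : Function.Bijective fun x : Fin 8 => gP2.getD x.val 0 :=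
  Finite.injective_iff_bijective.1 (by decide +kernel)

theorem gP3_bij : Function.Bijective fun x : Fin 8 => gP3.getD x.val 0 :=
  Finite.injective_iff_bijective.1 (by decide +kernel)

/-- The permutations of the generators. -/
def gPerm : Fin 4 → Equiv.Perm (Fin 8) := ![pmOf gP1 gP1_bij, pmOf gP2 gP2_bij, pmOf gP3 gP3_bij, 1]

/-- The tables of the generators. -/
def gFn : Fin 4 → ℕ → ℕ := ![wordFn gW1, wordFn gW2, wordFn gW3, lk tblT]

/-- The permutations of the families. -/
def gQ : Fin 4 → List (Fin 56) := ![gQ1, gQ2, gQ3, List.finRange 56]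

theorem gen_check : ∀ (n : Fin 4) (j : Fin 56),
    tri ((gQ n).getD j.val 0) = (tri j).image (gPerm n) ∧
      (spI j).image (gFn n) = spI ((gQ n).getD j.val 0) := by
  decide +kernel

theorem gen_comm : ∀ (n : Fin 4), ∀ i < 552, gFn n (lk tblT i) = lk tblT (gFn n i) := by
  decide +kernel

/-- The generators. -/
def gG : Fin 4 → ↥G3 := ![wordEl gW1, wordEl gW2, wordEl gW3, tG]

theorem acts_gG : ∀ n, Acts (gG n) (gFn n) := by
  intro n
  fin_cases n
  exacts [acts_word _, acts_word _, acts_word _, acts_t]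

theorem gG_mem : ∀ n, gG n ∈ SM := by
  intro n
  fin_cases n
  exacts [word_mem _, word_mem _, word_mem _, iota22_mem_SM _]

theorem gG_sends (n : Fin 4) : Sends (gG n) (gPerm n) := fun j => by
  obtain ⟨h1, h2⟩ := gen_check n j
  refine ⟨_, h1, ?_⟩
  rw [sv, sv, ← h2, Finset.image_image, Finset.image_image]
  exact Finset.image_congr fun i hi => (acts_gG n i (spI_lt j i hi)).2

theorem gG_comm (n : Fin 4) : gG n * tG = tG * gG n :=
  acts_inj ((acts_gG n).mul acts_t)
    ((acts_t.mul (acts_gG n)).congr fun i hi => gen_comm n i hi)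

theorem xW_check : (∀ i < 552, wordFn xW (wordFn xW i) = lk tblT i) ∧
    ∀ i < 552, wordFn xW (lk tblT i) = lk tblT (wordFn xW i) := by
  decide +kernel

theorem cyc_check : ∀ k : Fin 6, ∀ x : Fin 8,
    ((cycW.getD k.val []).map fun n => gPerm n.castSucc).prod x = c01 ⟨k.val + 2, by omega⟩ x := by
  decide +kernel

/-- The involution in the pair stabiliser. -/
def tS : ↥SM := ⟨tG, iota22_mem_SM _⟩

/-- Its centraliser. -/
def CT : Subgroup ↥SM := Subgroup.centralizer ({tS} : Set ↥SM)

theorem mem_CT {g : ↥SM} : g ∈ CT ↔ (g : ↥G3) * tG = tG * (g : ↥G3) := by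
  rw [CT, Subgroup.mem_centralizer_iff]
  constructor
  · intro h; exact (congrArg Subtype.val (h tS rfl)).symm
  · rintro h x rfl; exact Subtype.ext h.symm

/-- The generators in the pair stabiliser. -/
def gS (n : Fin 4) : ↥SM := ⟨gG n, gG_mem n⟩

/-- The subgroup they generate. -/
def HT : Subgroup ↥SM := Subgroup.closure (Set.range gS)

theorem HT_le : HT ≤ CT := by
  rw [HT, Subgroup.closure_le]
  rintro _ ⟨n, rfl⟩
  exact mem_CT.2 (gG_comm n)

theorem HT_sends (h : ↥HT) : ∃ π, Sends ((h : ↥SM) : ↥G3) π := by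
  obtain ⟨x, hx⟩ := h
  show ∃ π, Sends (x : ↥G3) π
  induction hx using Subgroup.closure_induction with
  | mem x hx => obtain ⟨n, rfl⟩ := hx; exact ⟨_, gG_sends n⟩
  | one => exact ⟨1, Sends.one⟩
  | mul x y _ _ hx hy =>
    obtain ⟨p, hp⟩ := hx; obtain ⟨q, hq⟩ := hy; exact ⟨p * q, hp.mul hq⟩
  | inv x _ hx => obtain ⟨p, hp⟩ := hx; exact ⟨p⁻¹, hp.inv⟩

/-- The action on eight letters. -/
def phi : ↥HT →* Equiv.Perm (Fin 8) where
  toFun h := (HT_sends h).choose
  map_one' := Sends.unique (HT_sends 1).choose_spec Sends.one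
  map_mul' x y := Sends.unique (HT_sends (x * y)).choose_spec
    ((HT_sends x).choose_spec.mul (HT_sends y).choose_spec)

theorem phi_gen (n : Fin 4) : phi ⟨gS n, Subgroup.subset_closure ⟨n, rfl⟩⟩ = gPerm n :=
  Sends.unique (HT_sends _).choose_spec (gG_sends n)

theorem card_range_phi : 20160 ≤ Nat.card ↥phi.range := by
  refine card_cycles.trans (Subgroup.card_le_of_le ((Subgroup.closure_le _).2 ?_))
  rintro _ ⟨k, hk, rfl⟩
  obtain ⟨m, rfl⟩ : ∃ m : Fin 6, k = ⟨m.val + 2, Nat.add_lt_add_right m.isLt 2⟩ :=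
    ⟨⟨k.val - 2, by omega⟩, Fin.ext (by show k.val = k.val - 2 + 2; have : 2 ≤ k.val := hk; omega)⟩
  rw [← show ((cycW.getD m.val []).map fun n => gPerm n.castSucc).prod = c01 _ from Equiv.ext (cyc_check m)]
  refine phi.range.list_prod_mem fun x hx => ?_
  obtain ⟨n, -, rfl⟩ := List.mem_map.1 hx
  exact ⟨_, phi_gen n.castSucc⟩

/-- The indices of the points fixed by the involution. -/
def fixIdx : List ℕ := (List.range 2024).filter fun k => fixB t0 k

theorem fixIdx_len : fixIdx.length = 104 := by decide +kernel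

/-- The fixed points. -/
def fixPts : Finset Vec := insert (e8 none) ((fixIdx.map fun k => vecN (getSlot 96 mclTab k)).toFinset)

theorem card_fixPts : fixPts.card ≤ 105 := by
  have key : ∀ (l : List ℕ) (f : ℕ → Vec) (a : Vec), l.length = 104 → (insert a (l.map f).toFinset).card ≤ 105 :=
    fun l f a h => by
      refine (Finset.card_insert_le _ _).trans (Nat.succ_le_succ ?_)
      exact (List.toFinset_card_le _).trans (by rw [List.length_map, h])
  exact key fixIdx _ _ fixIdx_len

theorem image_fixPts {g : ↥SM} (hg : g ∈ CT) : ap ((g : ↥G3) : ↥Co0) (e8 none) ∈ fixPts := by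
  have hm : inM24 t0 = true := by
    have h := tblT_ok
    simp only [permTblB, Bool.and_eq_true] at h
    exact h.1.1
  have h1 := fixed_of_rel (mem_CT.1 hg) (e8_mem none) (e8_fixed _)
  rcases fixed_member hm (image_mem g.2) (ap_mem _ (e8_mem none)) h1 with he | ⟨k, hk, hkf, he⟩
  · rw [he]; exact Finset.mem_insert_self _ _
  · refine Finset.mem_insert_of_mem (List.mem_toFinset.2 (List.mem_map.2 ⟨k, ?_, he.symm⟩))
    exact List.mem_filter.2 ⟨List.mem_range.2 hk, hkf⟩

theorem card_CT_le : Nat.card ↥CT ≤ 40320 := by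
  classical
  have hfin : Finite ↥Spor.M22 := Nat.finite_of_card_ne_zero (by rw [card_M22]; norm_num)
  let pr : ↥CT → ↥fixPts := fun g => ⟨_, image_fixPts g.2⟩
  let rep : ↥fixPts → ↥CT := fun y => if h : ∃ g, pr g = y then h.choose else 1
  have hrep : ∀ g, pr (rep (pr g)) = pr g := fun g => by
    have h : ∃ g', pr g' = pr g := ⟨g, rfl⟩
    simp only [rep, dif_pos h]
    exact h.choose_spec
  have hσ : ∀ g : ↥CT, ∃ σ : ↥(Subgroup.centralizer ({t22} : Set ↥Spor.M22)),
      ((((rep (pr g))⁻¹ * g : ↥CT) : ↥SM) : ↥G3) = iota22 σ.1 := fun g => by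
    set z : ↥CT := (rep (pr g))⁻¹ * g with hz
    have hfix : ap (((z : ↥SM) : ↥G3) : ↥Co0) (e8 none) = e8 none := by
      have h2 : ap ((((rep (pr g)) : ↥SM) : ↥G3) : ↥Co0) (e8 none) = ap (((g : ↥SM) : ↥G3) : ↥Co0) (e8 none) :=
        congrArg Subtype.val (hrep g)
      rw [hz]
      simp only [Subgroup.coe_mul, Subgroup.coe_inv]
      rw [ap_mul _ _ (e8_mem none), ← h2, ap_inv_ap _ (e8_mem none)]
    obtain ⟨σ, hσ⟩ := mem_range22 (z : ↥SM).2 hfix
    have hc := mem_CT.1 z.2
    rw [hσ, tG, ← map_mul, ← map_mul] at hc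
    refine ⟨⟨σ, ?_⟩, hσ⟩
    rw [Subgroup.mem_centralizer_iff]
    rintro x rfl
    exact (iota22_injective hc).symm
  choose σf hσf using hσ
  have hinj : Function.Injective fun g => (pr g, σf g) := by
    intro g g' h
    simp only [Prod.mk.injEq] at h
    have e := (hσf g).trans ((congrArg (fun σ : ↥(Subgroup.centralizer ({t22} : Set ↥Spor.M22)) => iota22 σ.1) h.2).trans
      (hσf g').symm)
    rw [h.1] at e
    exact mul_left_cancel (Subtype.ext (Subtype.ext e))
  have h1 := Nat.card_le_card_of_injective _ hinj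
  rw [Nat.card_prod, Nat.card_eq_fintype_card (α := ↥fixPts), Fintype.card_coe] at h1
  exact h1.trans (Nat.mul_le_mul card_fixPts card_cent22)

end

end Cfsg.Agent.LeechCount.McLInv
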