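import Cfsg.Agent.Lib.LeechCount.McLInv.Data
import Cfsg.Agent.Lib.Golay.SylowM22
import Cfsg.Agent.Lib.Golay.Classes

/-!
The involutions of the stabiliser of two points: one class of at least 1155 members.
-/

set_option autoImplicit false

namespace Cfsg.Agent.LeechCount.McLInv

open Cfsg Cfsg.Agent.Golay24 Cfsg.Agent.LeechCount.Co3Out

noncomputable section

/-- The packed class. -/
def clsTab : ℕ := packSlots 120 clsL

/-- A member. -/
def clsPt (k : ℕ) : ℕ := getSlot 120 clsTab k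

/-- Every member is a conjugate of an earlier one by a generator. -/
def ctreeB : ℕ → List (ℕ × ℕ) → Bool
  | _, [] => true
  | k, (j, g) :: rest => Nat.blt j k && Nat.blt g gens22.length &&
      (compP (gens22.getD g 0) (clsPt j) == compP (clsPt k) (gens22.getD g 0)) && ctreeB (k + 1) rest

theorem t0_ok : m22OutHyp.inH t0 = true := by decide +kernel

/-- The involution. -/
def t22 : ↥Spor.M22 := ⟨toPerm t0, m22OutHyp.mem t0 t0_ok⟩

theorem cls_ok : clsPt 0 = t0 ∧ ctreeB 1 clsTree = true ∧ clsTree.length = 1154 ∧ clsSrt.length = 1155 ∧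
    (∀ k ∈ clsSrt, k < 1155) ∧ sortedB (clsSrt.map clsPt) = true := by
  decide +kernel

theorem cls_valid : ∀ k < 1155, validP (clsPt k) = true ∧ compP (clsPt k) idP = clsPt k := by
  decide +kernel

theorem gens22_valid : ∀ g ∈ gens22, m22OutHyp.inH g = true ∧ validP g = true := by decide +kernel

theorem ctree_conj : ∀ (cert : List (ℕ × ℕ)) (k : ℕ), ctreeB k cert = true → k + cert.length ≤ 1155 →
    (∀ i < k, ∃ u : ↥Spor.M22, ((u * t22 * u⁻¹ : ↥Spor.M22) : Equiv.Perm GolayPt) = toPerm (clsPt i)) →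
    ∀ i < k + cert.length, ∃ u : ↥Spor.M22,
      ((u * t22 * u⁻¹ : ↥Spor.M22) : Equiv.Perm GolayPt) = toPerm (clsPt i)
  | [], k, _, _, hk, i, hi => hk i (by simpa using hi)
  | (j, g) :: rest, k, h, hlen, hk, i, hi => by
    simp only [ctreeB, Bool.and_eq_true, Nat.blt_eq, beq_iff_eq] at h
    obtain ⟨⟨⟨hj, hg⟩, he⟩, hr⟩ := h
    simp only [List.length_cons] at hlen hi
    have hmem : gens22.getD g 0 ∈ gens22 := by rw [List.getD_eq_getElem _ _ hg]; exact List.getElem_mem _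
    obtain ⟨hH, hv⟩ := gens22_valid _ hmem
    refine ctree_conj rest (k + 1) hr (by omega) (fun i' hi' => ?_) i (by omega)
    rcases Nat.lt_succ_iff_lt_or_eq.1 hi' with h' | rfl
    · exact hk i' h'
    obtain ⟨u, hu⟩ := hk j hj
    refine ⟨⟨toPerm (gens22.getD g 0), m22OutHyp.mem _ hH⟩ * u, ?_⟩
    have e := mul_eq_of_compP hv (cls_valid j (by omega)).1 (cls_valid i' (by omega)).1 hv he
    simp only [Subgroup.coe_mul, Subgroup.coe_inv, mul_inv_rev] at hu ⊢
    calc toPerm (gens22.getD g 0) * (u : Equiv.Perm GolayPt) * t22 *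
          ((u : Equiv.Perm GolayPt)⁻¹ * (toPerm (gens22.getD g 0))⁻¹)
        = toPerm (gens22.getD g 0) * ((u : Equiv.Perm GolayPt) * t22 * (u : Equiv.Perm GolayPt)⁻¹) *
          (toPerm (gens22.getD g 0))⁻¹ := by group
      _ = toPerm (clsPt i') := by rw [hu, e, mul_inv_cancel_right]

theorem cls_conj (k : ℕ) (hk : k < 1155) :
    ∃ u : ↥Spor.M22, ((u * t22 * u⁻¹ : ↥Spor.M22) : Equiv.Perm GolayPt) = toPerm (clsPt k) :=
  ctree_conj clsTree 1 cls_ok.2.1 (by rw [cls_ok.2.2.1])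
    (fun i hi => ⟨1, by obtain rfl : i = 0 := (by omega); rw [cls_ok.1, one_mul, inv_one, mul_one]; rfl⟩) k
    (by rw [cls_ok.2.2.1]; omega)

/-- The centraliser in the point stabiliser. -/
theorem card_cent22 : Nat.card ↥(Subgroup.centralizer ({t22} : Set ↥Spor.M22)) ≤ 384 := by
  choose u hu using cls_conj
  let φ : Fin 1155 × ↥(Subgroup.centralizer ({t22} : Set ↥Spor.M22)) → ↥Spor.M22 :=
    fun q => u q.1.val q.1.isLt * q.2.1
  have hfin : Finite ↥Spor.M22 := Nat.finite_of_card_ne_zero (by rw [card_M22]; norm_num)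
  have hφ : Function.Injective φ := by
    rintro ⟨k, c⟩ ⟨l, d⟩ h
    have key : ∀ (a : ↥Spor.M22) (x : ↥(Subgroup.centralizer ({t22} : Set ↥Spor.M22))),
        (a * x.1) * t22 * (a * x.1)⁻¹ = a * t22 * a⁻¹ := fun a x => by
      have hx : t22 * x.1 = x.1 * t22 := Subgroup.mem_centralizer_iff.1 x.2 t22 rfl
      rw [mul_assoc a x.1 t22, ← hx]
      group
    have h1 : toPerm (clsPt k.val) = toPerm (clsPt l.val) := by
      rw [← hu k.val k.isLt, ← hu l.val l.isLt]
      exact congrArg Subtype.val ((key _ c).symm.trans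
        ((congrArg (fun z : ↥Spor.M22 => z * t22 * z⁻¹) h).trans (key _ d)))
    have h2 := toPerm_inj (cls_valid _ k.isLt).1 (cls_valid _ l.isLt).1 (cls_valid _ k.isLt).2
      (cls_valid _ l.isLt).2 h1
    obtain ⟨-, -, -, hlen, hlt, hs⟩ := cls_ok
    have hnd : (clsSrt.map clsPt).Nodup := (sortedB_pairwise hs).imp fun h => Nat.ne_of_lt h
    have hperm : clsSrt.toFinset = Finset.range 1155 := Finset.eq_of_subset_of_card_le
      (fun x hx => Finset.mem_range.2 (hlt x (List.mem_toFinset.1 hx)))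
      (by rw [Finset.card_range, List.toFinset_card_of_nodup hnd.of_map, hlen])
    have hmem : ∀ i < 1155, i ∈ clsSrt := fun i hi =>
      List.mem_toFinset.1 (hperm ▸ Finset.mem_range.2 hi)
    obtain rfl : k = l := Fin.ext (List.inj_on_of_nodup_map hnd (hmem _ k.isLt) (hmem _ l.isLt) h2)
    exact Prod.ext rfl (Subtype.ext (mul_left_cancel h))
  have := Nat.card_le_card_of_injective φ hφ
  rw [Nat.card_prod, Nat.card_fin, card_M22] at this
  omega

theorem sylConj_ok : sylConj.length = m22Syl.elems.length ∧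
    ((m22Syl.elems.zip sylConj).all fun pk => !sqB pk.1 || isIdP pk.1 ||
      (m22OutHyp.inH pk.2 && validP pk.2 && (compP pk.2 pk.1 == compP t0 pk.2))) = true := by
  decide +kernel

theorem t0_valid : validP t0 = true := by decide +kernel

/-- One class of involutions. -/
theorem exists_conj22 {s : ↥Spor.M22} (h2 : orderOf s = 2) : ∃ k : ↥Spor.M22, k * s * k⁻¹ = t22 := by
  haveI : Fact (Nat.Prime 2) := ⟨Nat.prime_two⟩
  have hfin : Finite ↥Spor.M22 := Nat.finite_of_card_ne_zero (by rw [card_M22]; norm_num)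
  have hP : IsPGroup 2 (Subgroup.zpowers s) :=
    IsPGroup.of_card (n := 1) (by rw [Nat.card_zpowers, h2, pow_one])
  obtain ⟨S, hS⟩ := hP.exists_le_sylow
  obtain ⟨k₀, hk₀⟩ := MulAction.exists_smul_eq ↥Spor.M22 S m22SylHyp.sylow
  have hmem : k₀ * s * k₀⁻¹ ∈ (m22SylHyp.sylow : Subgroup ↥Spor.M22) := by
    rw [← hk₀, Sylow.coe_subgroup_smul, Subgroup.mem_pointwise_smul_iff_inv_smul_mem]
    simpa [MulAut.smul_def, mul_assoc] using hS (Subgroup.mem_zpowers _)
  rw [m22SylHyp.mem_sylow, m22Syl.mem_grp_iff m22SylHyp.grp] at hmem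
  obtain ⟨p, hp, hpe⟩ := hmem
  obtain ⟨hlen, hall⟩ := sylConj_ok
  obtain ⟨i, hi, rfl⟩ := List.mem_iff_getElem.1 hp
  have hz : (m22Syl.elems[i], sylConj[i]'(hlen ▸ hi)) ∈ m22Syl.elems.zip sylConj :=
    List.mem_iff_getElem.2 ⟨i, by simp [List.length_zip, hlen] at hi ⊢; exact hi, List.getElem_zip⟩
  have hv := (m22Syl.valid m22SylHyp.grp hp).1
  have hord : orderOf (toPerm m22Syl.elems[i]) = 2 := by
    rw [hpe, Subgroup.orderOf_coe, ← h2]
    exact MulEquiv.orderOf_eq (MulAut.conj k₀) s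
  have hone := List.all_eq_true.1 hall _ hz
  simp only [Bool.or_eq_true, Bool.and_eq_true, Bool.not_eq_true', beq_iff_eq] at hone
  rcases hone with (h | h) | ⟨⟨hk, hkv⟩, he⟩
  · rw [(sqB_iff hv).2 (by rw [← hord, pow_orderOf_eq_one])] at h
    simp at h
  · rw [toPerm_eq_one_of_isIdP hv h, orderOf_one] at hord
    omega
  refine ⟨⟨toPerm _, m22OutHyp.mem _ hk⟩ * k₀, Subtype.ext ?_⟩
  have e := mul_eq_of_compP hkv hv t0_valid hkv he
  rw [hpe] at e
  simp only [Subgroup.coe_mul, Subgroup.coe_inv, mul_inv_rev] at e ⊢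
  calc toPerm _ * (k₀ : Equiv.Perm GolayPt) * s * ((k₀ : Equiv.Perm GolayPt)⁻¹ * (toPerm _)⁻¹)
      = toPerm (sylConj[i]'(hlen ▸ hi)) * ((k₀ : Equiv.Perm GolayPt) * s * (k₀ : Equiv.Perm GolayPt)⁻¹) *
        (toPerm (sylConj[i]'(hlen ▸ hi)))⁻¹ := by group
    _ = toPerm t0 := by rw [e, mul_inv_cancel_right]

end

end Cfsg.Agent.LeechCount.McLInv
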