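import Cfsg.Agent.Lib.LeechCount.McLInv.Cent
import Cfsg.Agent.Lib.LeechCount.Co3Out.Model
import Cfsg.Prelude.Def_SporadicB

/-!
One class of involutions in the pair stabiliser, with centraliser a non-split double cover of the
alternating group of degree eight.
-/

set_option autoImplicit false

namespace Cfsg.Agent.LeechCount.McLInv

open Cfsg Cfsg.Agent.Leech Cfsg.Agent.Golay24 Cfsg.Agent.LeechCount.Co3Rank
open Cfsg.Agent.LeechCount.Co3Out MulAction

noncomputable section

attribute [local irreducible] normFS dotFS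

theorem orderOf_tS : orderOf tS = 2 := by
  have h : orderOf t22 = 2 := by
    have e : (t22 : Equiv.Perm GolayPt) = toPerm t0 := rfl
    have h1 : sqB t0 = true ∧ isIdP t0 = false := by decide +kernel
    refine orderOf_eq_prime (Subtype.ext ?_) fun he => not_one_of_not_isIdP t0_valid h1.2 ?_
    · rw [Subgroup.coe_pow, e, (sqB_iff t0_valid).1 h1.1, OneMemClass.coe_one]
    · rw [← e, he, OneMemClass.coe_one]
  rw [← Subgroup.orderOf_coe]
  show orderOf (iota22 t22) = 2
  rw [orderOf_injective iota22 iota22_injective, h]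

theorem tS_sq : tS * tS = 1 := by rw [← pow_two, ← orderOf_tS, pow_orderOf_eq_one]

theorem tS_ne : tS ≠ 1 := fun h => by
  have := orderOf_tS
  rw [h, orderOf_one] at this
  omega

theorem finite_SM : Finite ↥SM := inferInstance

/-- The involution as a member of the generated subgroup. -/
def tH : ↥HT := ⟨gS 3, Subgroup.subset_closure ⟨3, rfl⟩⟩

theorem tH_val : (tH : ↥SM) = tS := rfl

theorem phi_tH : phi tH = 1 := phi_gen 3

theorem HT_eq : HT = CT ∧ Nat.card ↥HT = 40320 ∧ Nat.card ↥phi.ker = 2 ∧ Nat.card ↥phi.range = 20160 := by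
  have hr := card_range_phi
  have hk : 2 ≤ Nat.card ↥phi.ker := by
    have hne : tH ≠ 1 := fun e => tS_ne (tH_val.symm.trans (congrArg Subtype.val e))
    have : Nontrivial ↥phi.ker :=
      ⟨⟨⟨tH, MonoidHom.mem_ker.2 phi_tH⟩, 1, fun e => hne (congrArg Subtype.val e)⟩⟩
    exact Finite.one_lt_card
  have hc := Subgroup.card_eq_card_quotient_mul_card_subgroup phi.ker
  rw [Nat.card_congr (QuotientGroup.quotientKerEquivRange phi).toEquiv] at hc
  have hle : Nat.card ↥HT ≤ Nat.card ↥CT := Subgroup.card_le_of_le HT_le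
  have hC := card_CT_le
  have hmul : 20160 * 2 ≤ Nat.card ↥phi.range * Nat.card ↥phi.ker := Nat.mul_le_mul hr hk
  refine ⟨Subgroup.eq_of_le_of_card_ge HT_le (by omega), by omega, ?_, ?_⟩
  · have : 20160 * Nat.card ↥phi.ker ≤ 40320 := (Nat.mul_le_mul_right _ hr).trans (by omega)
    omega
  · have : Nat.card ↥phi.range * 2 ≤ 40320 := (Nat.mul_le_mul_left _ hk).trans (by omega)
    omega

theorem range_phi : phi.range = alternatingGroup (Fin 8) := by
  apply Equiv.Perm.eq_alternatingGroup_of_index_eq_two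
  have h := Subgroup.card_mul_index phi.range
  rw [HT_eq.2.2.2, Nat.card_perm, Nat.card_fin, show Nat.factorial 8 = 40320 from rfl] at h
  omega

theorem center_range : Subgroup.center ↥phi.range = ⊥ := by
  rw [eq_bot_iff]
  intro x hx
  let e : ↥phi.range ≃* ↥(alternatingGroup (Fin 8)) := MulEquiv.subgroupCongr range_phi
  have h1 : e x ∈ Subgroup.center ↥(alternatingGroup (Fin 8)) := by
    rw [Subgroup.mem_center_iff] at hx ⊢
    intro g
    have := congrArg e (hx (e.symm g))
    simpa using this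
  rw [alternatingGroup.center_eq_bot (by simp), Subgroup.mem_bot, MulEquiv.map_eq_one_iff] at h1
  exact h1

theorem tH_central : tH ∈ Subgroup.center ↥HT := by
  rw [Subgroup.mem_center_iff]
  intro g
  exact Subtype.ext (Subtype.ext (mem_CT.1 (HT_le g.2)))

theorem center_HT : Subgroup.center ↥HT = phi.ker := by
  refine le_antisymm (fun z hz => ?_) ?_
  · have hm : phi.rangeRestrict z ∈ Subgroup.center ↥phi.range := by
      rw [Subgroup.mem_center_iff]
      rintro ⟨g, h, rfl⟩
      have hh := congrArg phi.rangeRestrict (Subgroup.mem_center_iff.1 hz h)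
      rw [map_mul, map_mul] at hh
      exact hh
    rw [center_range, Subgroup.mem_bot] at hm
    exact MonoidHom.mem_ker.2 (congrArg Subtype.val hm)
  · intro z hz
    have hsub : (Subgroup.zpowers tH) = phi.ker := by
      refine Subgroup.eq_of_le_of_card_ge (Subgroup.zpowers_le.2 (MonoidHom.mem_ker.2 phi_tH)) ?_
      rw [Nat.card_zpowers, HT_eq.2.2.1, ← Subgroup.orderOf_coe tH, tH_val, orderOf_tS]
    rw [← hsub] at hz
    exact Subgroup.zpowers_le.2 tH_central hz

theorem not_complement_of_sqrt {H : Type*} [Group H] {t x : H} (ht : t ∈ Subgroup.center H)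
    (ht1 : t ≠ 1) (hz2 : ∀ z ∈ Subgroup.center H, z * z = 1) (hxx : x * x = t) (L : Subgroup H) :
    ¬ (Subgroup.center H).IsComplement' L := by
  intro hL
  obtain ⟨⟨z, l⟩, hzl⟩ := hL.2 x
  have hcomm : (z : H) * l = l * z := (Subgroup.mem_center_iff.1 z.2 l).symm
  have htL : t ∈ L := by
    rw [← hxx, ← show (z : H) * l = x from hzl]
    have e : (z : H) * l * ((z : H) * l) = (l : H) * l := by
      rw [mul_assoc, ← mul_assoc (l : H), ← hcomm, mul_assoc (z : H), ← mul_assoc (z : H) (z : H),
        hz2 _ z.2, one_mul]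
    rw [e]
    exact L.mul_mem l.2 l.2
  exact ht1 (Subgroup.disjoint_def.1 hL.disjoint ht htL)

theorem not_complement : ∀ L : Subgroup ↥HT, ¬ (Subgroup.center ↥HT).IsComplement' L := by
  have hx : wordEl xW * tG = tG * wordEl xW :=
    acts_inj ((acts_word xW).mul acts_t)
      ((acts_t.mul (acts_word xW)).congr fun i hi => xW_check.2 i hi)
  have hsq : wordEl xW * wordEl xW = tG :=
    acts_inj ((acts_word xW).mul (acts_word xW)) (acts_t.congr fun i hi => xW_check.1 i hi)
  have hxH : (⟨wordEl xW, word_mem xW⟩ : ↥SM) ∈ HT := by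
    rw [HT_eq.1]; exact mem_CT.2 hx
  refine not_complement_of_sqrt tH_central ?_ ?_ (x := ⟨_, hxH⟩) ?_
  · exact fun h => tS_ne (tH_val.symm.trans (congrArg Subtype.val h))
  · intro z hz
    rw [center_HT] at hz
    have h2 : (⟨z, hz⟩ : ↥phi.ker) ^ Nat.card ↥phi.ker = 1 := pow_card_eq_one'
    rw [HT_eq.2.2.1, pow_two] at h2
    exact congrArg Subtype.val h2
  · exact Subtype.ext (Subtype.ext hsq)

/-- The centraliser is a non-split double cover. -/
theorem double_cover_HT : IsNonsplitDoubleCover ↥HT ↥(alternatingGroup (Fin 8)) := by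
  refine ⟨by rw [center_HT]; exact HT_eq.2.2.1, ⟨?_⟩, not_complement⟩
  exact (QuotientGroup.quotientMulEquivOfEq center_HT).trans
    ((QuotientGroup.quotientKerEquivRange phi).trans (MulEquiv.subgroupCongr range_phi))

theorem double_cover_congr {H H' K : Type*} [Group H] [Group H'] [Group K] (e : H ≃* H')
    (h : IsNonsplitDoubleCover H K) : IsNonsplitDoubleCover H' K := by
  obtain ⟨h1, ⟨q⟩, h3⟩ := h
  have hc : (Subgroup.center H).map e.toMonoidHom = Subgroup.center H' := by
    ext x
    rw [Subgroup.mem_map_equiv, Subgroup.mem_center_iff, Subgroup.mem_center_iff]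
    constructor
    · intro hx g
      have := congrArg e (hx (e.symm g))
      simpa using this
    · intro hx g
      have := congrArg e.symm (hx (e g))
      simpa using this
  refine ⟨?_, ⟨(QuotientGroup.congr (Subgroup.center H) (Subgroup.center H') e hc).symm.trans q⟩, fun L hL => ?_⟩
  · rw [← hc]
    exact (Nat.card_congr (e.subgroupMap (Subgroup.center H)).toEquiv).symm.trans h1
  · refine h3 (L.comap e.toMonoidHom) (Subgroup.isComplement'_of_disjoint_and_mul_eq_univ ?_ ?_)
    · rw [Subgroup.disjoint_def]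
      intro x hx hxL
      have h4 : e x = 1 := Subgroup.disjoint_def.1 hL.disjoint
        (hc ▸ Subgroup.mem_map_of_mem e.toMonoidHom hx) hxL
      exact (MulEquiv.map_eq_one_iff e).1 h4
    · ext x
      simp only [Set.mem_mul, SetLike.mem_coe, Set.mem_univ, iff_true]
      obtain ⟨⟨z, l⟩, hzl⟩ := hL.2 (e x)
      refine ⟨e.symm z, ?_, e.symm l, by show e (e.symm (l : H')) ∈ L; rw [e.apply_symm_apply]; exact l.2, ?_⟩
      · obtain ⟨y, hy, hye⟩ : (z : H') ∈ (Subgroup.center H).map e.toMonoidHom := by rw [hc]; exact z.2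
        rw [← hye]
        simpa using hy
      · rw [← map_mul]
        exact (congrArg e.symm hzl).trans (e.symm_apply_apply x)

theorem exists_fixed_pt {g : ↥SM} (h2 : g * g = 1) :
    ∃ y ∈ pts25, ap ((g : ↥G3) : ↥Co0) y = y := by
  by_contra hcon
  simp only [not_exists, not_and] at hcon
  have hmap : ∀ y ∈ pts25, ap ((g : ↥G3) : ↥Co0) y ∈ pts25 := fun y hy => by
    obtain ⟨k, hk, rfl⟩ := pts25_reach y hy
    rw [← ap_mul _ _ (e8_mem none), ← Subgroup.coe_mul]
    exact image_mem (SM.mul_mem g.2 (KM_le_SM hk))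
  have hinv : ∀ y ∈ pts25, ap ((g : ↥G3) : ↥Co0) (ap ((g : ↥G3) : ↥Co0) y) = y := fun y hy => by
    have hy' := (pts25_reach y hy).mem (e8_mem none)
    rw [← ap_mul _ _ hy', ← Subgroup.coe_mul, ← Subgroup.coe_mul, h2]
    exact ap_one y
  have hsum : ∑ _y ∈ pts25, (1 : ZMod 2) = 0 :=
    Finset.sum_involution (fun y _ => ap ((g : ↥G3) : ↥Co0) y) (fun _ _ => by decide)
      (fun y hy _ => hcon y hy) hmap hinv
  rw [Finset.sum_const, pts25_card, nsmul_eq_mul, mul_one] at hsum
  exact absurd hsum (by decide +kernel)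

/-- One class of involutions. -/
theorem conj_tS {g : ↥SM} (h : orderOf g = 2) : IsConj g tS := by
  have hsq : g * g = 1 := by rw [← pow_two, ← h, pow_orderOf_eq_one]
  obtain ⟨y, hy, hfix⟩ := exists_fixed_pt hsq
  obtain ⟨k, hk, rfl⟩ := pts25_reach y hy
  let k' : ↥SM := ⟨k, KM_le_SM hk⟩
  have hf : ap ((((k'⁻¹ * g * k' : ↥SM) : ↥G3)) : ↥Co0) (e8 none) = e8 none := by
    simp only [Subgroup.coe_mul, Subgroup.coe_inv, k']
    rw [ap_mul _ _ (e8_mem none), ap_mul _ _ (ap_mem _ (e8_mem none)), hfix, ap_inv_ap _ (e8_mem none)]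
  obtain ⟨σ, hσ⟩ := mem_range22 (k'⁻¹ * g * k').2 hf
  have ho : orderOf σ = 2 := by
    have e : orderOf (k'⁻¹ * g * k') = 2 := by
      have e' := MulEquiv.orderOf_eq (MulAut.conj k'⁻¹) g
      rw [MulAut.conj_apply, inv_inv] at e'
      rw [e', h]
    rw [← Subgroup.orderOf_coe, hσ, orderOf_injective iota22 iota22_injective] at e
    exact e
  obtain ⟨u, hu⟩ := exists_conj22 ho
  let u' : ↥SM := ⟨iota22 u, iota22_mem_SM u⟩
  refine isConj_iff.2 ⟨u' * k'⁻¹, Subtype.ext ?_⟩
  show ((u' * k'⁻¹ * g * (u' * k'⁻¹)⁻¹ : ↥SM) : ↥G3) = iota22 t22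
  rw [← hu, map_mul, map_mul, map_inv, ← hσ]
  simp only [Subgroup.coe_mul, Subgroup.coe_inv, u', k']
  group

/-- The statement for the frozen group. -/
theorem main : (∀ x y : ↥Spor.McL, orderOf x = 2 → orderOf y = 2 → IsConj x y) ∧
    ∃ t : ↥Spor.McL, orderOf t = 2 ∧
      IsNonsplitDoubleCover ↥(Subgroup.centralizer ({t} : Set ↥Spor.McL)) ↥(alternatingGroup (Fin 8)) := by
  refine ⟨fun x y hx hy => ?_, mclEquiv.symm tS, ?_, ?_⟩
  · have h1 := conj_tS ((MulEquiv.orderOf_eq mclEquiv x).trans hx)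
    have h2 := conj_tS ((MulEquiv.orderOf_eq mclEquiv y).trans hy)
    have h3 := mclEquiv.symm.toMonoidHom.map_isConj (h1.trans h2.symm)
    simpa using h3
  · rw [MulEquiv.orderOf_eq, orderOf_tS]
  · have hc : CT.map mclEquiv.symm.toMonoidHom = Subgroup.centralizer ({mclEquiv.symm tS} : Set ↥Spor.McL) := by
      ext x
      rw [Subgroup.mem_map_equiv, CT, Subgroup.mem_centralizer_iff, Subgroup.mem_centralizer_iff]
      simp only [Set.mem_singleton_iff, forall_eq, MulEquiv.symm_symm]
      constructor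
      · intro h
        have := congrArg mclEquiv.symm h
        simpa using this
      · intro h
        have := congrArg mclEquiv h
        simpa using this
    exact double_cover_congr (((MulEquiv.subgroupCongr HT_eq.1).trans (mclEquiv.symm.subgroupMap CT)).trans
      (MulEquiv.subgroupCongr hc)) double_cover_HT

end

end Cfsg.Agent.LeechCount.McLInv
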